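import Groth.Agent.DualOv79.Pull
import Groth.Agent.HZero79.Basic

/-!
# Connecting maps over the objects of a big site
-/

set_option autoImplicit false

universe u

open CategoryTheory CategoryTheory.Limits CategoryTheory.Abelian AlgebraicGeometry Opposite

namespace Groth.Agent.TorsPi79

variable {S : Scheme.{u}} (E : ShortComplex (BigSite.Ab Scheme.fppfPrecoverage S)) (hE : E.ShortExact)

/-- The connecting map on sections over an object. -/
noncomputable def delta (U : Over S) :
    E.X₃.obj.obj (op U) →+ BigSite.HU Scheme.fppfPrecoverage E.X₁ 1 U :=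
  ((hE.map_of_exact (BigSite.pullBig Scheme.fppfPrecoverage U.hom AddCommGrpCat.{u + 1})).extClass.postcomp _
    (zero_add 1)).comp (HZero79.secHU E.X₃ U).symm.toAddMonoidHom

theorem delta_apply (U : Over S) (q : E.X₃.obj.obj (op U)) :
    delta E hE U q = ((HZero79.secHU E.X₃ U).symm q).comp
      (hE.map_of_exact (BigSite.pullBig Scheme.fppfPrecoverage U.hom AddCommGrpCat.{u + 1})).extClass (zero_add 1) :=
  rfl

theorem secHU_map {U : Over S} {F F' : BigSite.Ab Scheme.fppfPrecoverage S} (φ : F ⟶ F')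
    (z : BigSite.HU Scheme.fppfPrecoverage F 0 U) :
    HZero79.secHU F' U (Sheaf.H.map ((BigSite.pullBig Scheme.fppfPrecoverage U.hom AddCommGrpCat.{u + 1}).map φ) 0 z) =
      φ.hom.app (op U) (HZero79.secHU F U z) := by
  rw [HZero79.secHU_apply, HZero79.secHU_apply]
  refine (congrArg (fun z => F'.obj.map (HZero79.topIso U).hom.op z)
    (Sheaf.H.equiv₀_naturality Over.mkIdTerminal
      (f := (BigSite.pullBig Scheme.fppfPrecoverage U.hom AddCommGrpCat.{u + 1}).map φ) z).symm).trans ?_
  exact (NatTrans.naturality_apply φ.hom (HZero79.topIso U).hom.op _).symm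

theorem delta_eq_zero_iff (U : Over S) (q : E.X₃.obj.obj (op U)) :
    delta E hE U q = 0 ↔ ∃ z, (E.g.hom.app (op U)).hom z = q := by
  constructor
  · intro h
    obtain ⟨z, hz⟩ := Ext.covariant_sequence_exact₃ _
      (hE.map_of_exact (BigSite.pullBig Scheme.fppfPrecoverage U.hom AddCommGrpCat.{u + 1}))
      ((HZero79.secHU E.X₃ U).symm q) (n₁ := 1) rfl h
    refine ⟨HZero79.secHU E.X₂ U z, ?_⟩
    refine (secHU_map E.g z).symm.trans ?_
    exact (congrArg (HZero79.secHU E.X₃ U) ((Sheaf.H.map_apply _ _).trans hz)).trans (AddEquiv.apply_symm_apply _ _)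
  · rintro ⟨z, rfl⟩
    have e : (HZero79.secHU E.X₃ U).symm ((E.g.hom.app (op U)).hom z) =
        Sheaf.H.map ((BigSite.pullBig Scheme.fppfPrecoverage U.hom AddCommGrpCat.{u + 1}).map E.g) 0
          ((HZero79.secHU E.X₂ U).symm z) := by
      apply (HZero79.secHU E.X₃ U).injective
      rw [AddEquiv.apply_symm_apply, secHU_map, AddEquiv.apply_symm_apply]
    rw [delta_apply]
    rw [e]
    refine (congrArg (fun y => Ext.comp y _ _) (Sheaf.H.map_apply _ _)).trans ?_
    refine (Ext.comp_assoc_of_second_deg_zero _ _ _ _).trans ?_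
    exact (congrArg (Ext.comp ((HZero79.secHU E.X₂ U).symm z) · (zero_add 1))
      (hE.map_of_exact (BigSite.pullBig Scheme.fppfPrecoverage U.hom AddCommGrpCat.{u + 1})).comp_extClass).trans
      (Ext.comp_zero _ _ _ _ _)

theorem delta_surjective [Injective E.X₂] (U : Over S) : Function.Surjective (delta E hE U) := fun x => by
  haveI : Injective ((E.map (BigSite.pullBig Scheme.fppfPrecoverage U.hom AddCommGrpCat.{u + 1})).X₂) :=
    Functor.PreservesInjectiveObjects.injective_obj (F := BigSite.pullBig Scheme.fppfPrecoverage U.hom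
      AddCommGrpCat.{u + 1}) ‹Injective E.X₂›
  obtain ⟨q, hq⟩ := Ext.covariant_sequence_exact₁ _
    (hE.map_of_exact (BigSite.pullBig Scheme.fppfPrecoverage U.hom AddCommGrpCat.{u + 1})) x
    (Ext.eq_zero_of_injective
      (I := (E.map (BigSite.pullBig Scheme.fppfPrecoverage U.hom AddCommGrpCat.{u + 1})).X₂) _) (n₀ := 0) rfl
  refine ⟨HZero79.secHU E.X₃ U q, ?_⟩
  exact (congrArg (fun y => Ext.comp y _ rfl) ((HZero79.secHU E.X₃ U).symm_apply_apply q)).trans hq

theorem resHU_delta {U U' : Over S} (g : U' ⟶ U) (q : E.X₃.obj.obj (op U)) :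
    HRes.resHU Scheme.fppfPrecoverage E.X₁ 1 g (delta E hE U q) = delta E hE U' (E.X₃.obj.map g.op q) := by
  let P₀ := BigSite.pullBig Scheme.fppfPrecoverage U.hom AddCommGrpCat.{u + 1}
  let P₁ := BigSite.pullBig Scheme.fppfPrecoverage g.left AddCommGrpCat.{u + 1}
  let P' := BigSite.pullBig Scheme.fppfPrecoverage U'.hom AddCommGrpCat.{u + 1}
  let φ : (E.map P₀).map P₁ ⟶ E.map P' :=
    { τ₁ := (HRes.pullIso Scheme.fppfPrecoverage E.X₁ g).hom
      τ₂ := (HRes.pullIso Scheme.fppfPrecoverage E.X₂ g).hom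
      τ₃ := (HRes.pullIso Scheme.fppfPrecoverage E.X₃ g).hom
      comm₁₂ := ((((Scheme.fppfPrecoverage.toGrothendieck).overMapPullbackComp AddCommGrpCat.{u + 1} g.left U.hom) ≪≫
        ((Scheme.fppfPrecoverage.toGrothendieck).overMapPullbackCongr AddCommGrpCat.{u + 1} (Over.w g))).hom.naturality E.f).symm
      comm₂₃ := ((((Scheme.fppfPrecoverage.toGrothendieck).overMapPullbackComp AddCommGrpCat.{u + 1} g.left U.hom) ≪≫
        ((Scheme.fppfPrecoverage.toGrothendieck).overMapPullbackCongr AddCommGrpCat.{u + 1} (Over.w g))).hom.naturality E.g).symm }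
  have hn := ShortComplex.ShortExact.extClass_naturality ((hE.map_of_exact P₀).map_of_exact P₁) (hE.map_of_exact P') φ
  show Sheaf.H.map (HRes.pullIso Scheme.fppfPrecoverage E.X₁ g).hom 1
    (HRes.pull Scheme.fppfPrecoverage g.left (P₀.obj E.X₁) 1 (delta E hE U q)) = _
  have h1 := DualOv79.pull_comp_extClass g.left (hE.map_of_exact P₀) 0 ((HZero79.secHU E.X₃ U).symm q)
  refine (congrArg (Sheaf.H.map (HRes.pullIso Scheme.fppfPrecoverage E.X₁ g).hom 1) h1).trans ?_
  refine (Sheaf.H.map_apply _ _).trans ?_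
  refine (Ext.comp_assoc_of_third_deg_zero _ _ _ _).trans ?_
  rw [delta_apply]
  refine (congrArg (Ext.comp (HRes.pull Scheme.fppfPrecoverage g.left (P₀.obj E.X₃) 0 ((HZero79.secHU E.X₃ U).symm q)) ·
    (zero_add 1)) hn).trans ?_
  refine (Ext.comp_assoc_of_second_deg_zero _ _ _ _).symm.trans ?_
  refine congrArg (fun z => Ext.comp z (hE.map_of_exact P').extClass rfl) ?_
  apply (HZero79.secHU E.X₃ U').injective
  rw [AddEquiv.apply_symm_apply]
  refine (HZero79.secHU_resHU E.X₃ g ((HZero79.secHU E.X₃ U).symm q)).trans ?_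
  rw [AddEquiv.apply_symm_apply]

end Groth.Agent.TorsPi79
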