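import Groth.Agent.TorsPi79.Pi
import Groth.Agent.TorsPi79.Delta
import Mathlib.RingTheory.Spectrum.Prime.FreeLocus

/-!
# First cohomology over a product of local rings
-/

set_option autoImplicit false

universe u

open CategoryTheory CategoryTheory.Limits Opposite AlgebraicGeometry TensorProduct

namespace Groth.Agent.TorsPi79

/-- The ranks of a finite morphism to an affine scheme are bounded. -/
theorem exists_finrank_bound {R₀ : Type u} [CommRing R₀] {X : Scheme.{u}} (π : X ⟶ Spec (CommRingCat.of R₀))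
    [IsFinite π] [Flat π] : ∃ N, ∀ z, π.finrank z ≤ N := by
  haveI : IsAffine X := isAffine_of_isAffineHom π
  let φ : CommRingCat.of R₀ ⟶ Γ(X, ⊤) := Spec.preimage (X.isoSpec.inv ≫ π)
  have hφ : Spec.map φ = X.isoSpec.inv ≫ π := Spec.map_preimage _
  letI : Algebra R₀ Γ(X, ⊤) := φ.hom.toAlgebra
  haveI : IsFinite (Spec.map φ) := by rw [hφ]; infer_instance
  haveI : Flat (Spec.map φ) := by rw [hφ]; infer_instance
  haveI : Module.Finite R₀ Γ(X, ⊤) := RingHom.finite_algebraMap.1 ((IsFinite.SpecMap_iff φ).1 inferInstance)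
  haveI : Module.Flat R₀ Γ(X, ⊤) :=
    RingHom.flat_algebraMap_iff.1 ((HasRingHomProperty.Spec_iff (P := @Flat)).1 ‹Flat (Spec.map φ)›)
  obtain ⟨N, F, hF⟩ := Module.Finite.exists_fin' R₀ Γ(X, ⊤)
  have key : ∀ p : PrimeSpectrum R₀, Module.rankAtStalk Γ(X, ⊤) p ≤ N := fun p => by
    haveI : Nontrivial R₀ := p.nontrivial
    rw [Module.rankAtStalk_eq]
    have hs : Function.Surjective (F.baseChange p.asIdeal.ResidueField) := LinearMap.lTensor_surjective _ hF
    refine (LinearMap.finrank_le_finrank_of_surjective hs).trans ?_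
    rw [Module.finrank_baseChange, Module.finrank_fin_fun]
  refine ⟨N, fun z => ?_⟩
  have h3 : π = X.isoSpec.hom ≫ Spec.map φ := by rw [hφ, Iso.hom_inv_id_assoc]
  rw [h3, Scheme.Hom.finrank_comp_left_of_isIso]
  exact (Scheme.Hom.finrank_SpecMap_algebraMap R₀ Γ(X, ⊤) z).le.trans (key _)

variable {ι : Type u} (R : ι → Type u) [∀ i, CommRing (R i)] [∀ i, IsLocalRing (R i)] {R₀ : Type u} [CommRing R₀]

/-- The first cohomology of a finite flat commutative group scheme over a product of local rings is the product of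
those over the factors. -/
theorem bijective_resHU (G : Over (Spec (CommRingCat.of R₀))) [GrpObj G] [IsCommMonObj G] [IsFinite G.hom] [Flat G.hom]
    (a : Spec (CommRingCat.of (∀ i, R i)) ⟶ Spec (CommRingCat.of R₀))
    (b : ∀ i, Spec (CommRingCat.of (R i)) ⟶ Spec (CommRingCat.of R₀)) (hb : ∀ i, fac R i ≫ a = b i) :
    Function.Bijective (fun (x : BigSite.HU Scheme.fppfPrecoverage (CGrpSh.pts Scheme.fppfPrecoverage G) 1 (Over.mk a)) i =>
      HRes.resHU Scheme.fppfPrecoverage (CGrpSh.pts Scheme.fppfPrecoverage G) 1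
        (Over.homMk (fac R i) (hb i) : Over.mk (b i) ⟶ Over.mk a) x) := by
  obtain rfl : b = fun i => fac R i ≫ a := funext fun i => (hb i).symm
  obtain ⟨N, hN⟩ := exists_finrank_bound G.hom
  let P := Classical.arbitrary (InjectivePresentation (CGrpSh.pts Scheme.fppfPrecoverage G))
  haveI := P.injective
  let E := P.shortComplex
  have hE : E.ShortExact := P.shortExact_shortComplex
  constructor
  · intro x x' h
    obtain ⟨q, rfl⟩ := delta_surjective E hE (Over.mk a) x
    obtain ⟨q', rfl⟩ := delta_surjective E hE (Over.mk a) x'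
    rw [← sub_eq_zero, ← map_sub, delta_eq_zero_iff]
    refine exists_lift_of_factors E.f E.g E.zero hE a (q - q') fun i => ?_
    refine (delta_eq_zero_iff E hE _ _).1 ?_
    refine (resHU_delta E hE (facO a i) (q - q')).symm.trans ?_
    rw [map_sub, map_sub, sub_eq_zero]
    exact congrFun h i
  · intro x
    choose q hq using fun i => delta_surjective E hE (Over.mk (fac R i ≫ a)) (x i)
    obtain ⟨s, hs⟩ := exists_glue_sections E.f E.g E.zero hE a N hN q
    refine ⟨delta E hE (Over.mk a) s, funext fun i => ?_⟩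
    refine (resHU_delta E hE (facO a i) s).trans ?_
    rw [← hq i, ← sub_eq_zero, ← map_sub, delta_eq_zero_iff]
    exact hs i

end Groth.Agent.TorsPi79
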