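import Groth.Agent.GmField79.HOne
import Groth.Prelude.Def_CGrpSh
import Mathlib.LinearAlgebra.TensorProduct.Basis
import Mathlib.RingTheory.TensorProduct.Maps
import Mathlib.Algebra.Algebra.Pi

/-!
# Algebras over a product of rings determined by their components
-/

set_option autoImplicit false

universe u

open CategoryTheory CategoryTheory.Limits Opposite AlgebraicGeometry TensorProduct

namespace Groth.Agent.TorsPi79

variable {ι : Type u} {R : ι → Type u} [∀ i, CommRing (R i)]

section Comp

variable (R) (M : Type u) [CommRing M] [Algebra (∀ i, R i) M] (Mi : ι → Type u) [∀ i, CommRing (Mi i)]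
  [∀ i, Algebra (R i) (Mi i)]

/-- Maps to algebras over the factors carrying a basis to bases. -/
structure Comp where
  /-- the index type -/
  κ : Type
  /-- it is finite -/
  fin : Fintype κ
  /-- the basis -/
  b : Module.Basis κ (∀ i, R i) M
  /-- the bases of the components -/
  bi : ∀ i, Module.Basis κ (R i) (Mi i)
  /-- the projections -/
  ψ : ∀ i, M →+* Mi i
  ψ_alg : ∀ i c, ψ i (algebraMap (∀ i, R i) M c) = algebraMap (R i) (Mi i) (c i)
  ψ_b : ∀ i k, ψ i (b k) = bi i k

variable {R M Mi}

theorem Comp.bijective (D : Comp R M Mi) : Function.Bijective (RingHom.pi D.ψ) := by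
  haveI := D.fin
  have hsm : ∀ i (c : ∀ i, R i) (x : M), D.ψ i (c • x) = c i • D.ψ i x := fun i c x => by
    rw [Algebra.smul_def, map_mul, D.ψ_alg, ← Algebra.smul_def]
  have hψ : ∀ i (x : M) k, (D.bi i).repr (D.ψ i x) k = D.b.repr x k i := by
    intro i x k
    conv_lhs => rw [← D.b.sum_repr x]
    rw [map_sum]
    simp only [hsm, D.ψ_b]
    exact congrFun ((D.bi i).repr_sum_self (fun k => D.b.repr x k i)) k
  refine ⟨(injective_iff_map_eq_zero _).2 fun x hx => D.b.ext_elem fun k => funext fun i => ?_, fun y => ?_⟩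
  · rw [← hψ, show D.ψ i x = 0 from congrFun hx i, map_zero, map_zero]; rfl
  · refine ⟨∑ k, (fun i => (D.bi i).repr (y i) k) • D.b k, funext fun i => ?_⟩
    show D.ψ i _ = y i
    rw [map_sum]
    simp only [hsm, D.ψ_b]
    exact (D.bi i).sum_repr (y i)

end Comp

section Pi

variable (A : ι → Type u) [∀ i, CommRing (A i)] [∀ i, Algebra (R i) (A i)]

/-- The product of algebras over the factors. -/
@[reducible] noncomputable def piAlg : Algebra (∀ i, R i) (∀ i, A i) :=
  (RingHom.pi fun i => (algebraMap (R i) (A i)).comp (Pi.evalRingHom R i)).toAlgebra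

/-- The product of free algebras of constant rank. -/
noncomputable def compPi (n : ℕ) (b : ∀ i, Module.Basis (Fin n) (R i) (A i)) :
    letI := piAlg (R := R) A
    Comp R (∀ i, A i) A :=
  letI := piAlg (R := R) A
  letI : Module (∀ i, R i) (∀ i, A i) := (piAlg (R := R) A).toModule
  let e : (∀ i, A i) ≃ₗ[∀ i, R i] (Fin n → ∀ i, R i) :=
    { toFun := fun x k i => (b i).repr (x i) k
      invFun := fun y i => (b i).equivFun.symm fun k => y k i
      left_inv := fun x => funext fun i => (b i).equivFun.symm_apply_apply (x i)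
      right_inv := fun y => funext fun k => funext fun i =>
        congrFun ((b i).equivFun.apply_symm_apply fun k => y k i) k
      map_add' := fun x y => funext fun k => funext fun i => by simp
      map_smul' := fun c x => funext fun k => funext fun i => by
        refine (congrArg (fun z => (b i).repr z k) (a₂ := c i • x i) ?_).trans ?_
        · exact (Algebra.smul_def (c i) (x i)).symm
        · simp only [map_smul]; rfl }
  { κ := Fin n
    fin := inferInstance
    b := Module.Basis.ofEquivFun e
    bi := b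
    ψ := Pi.evalRingHom A
    ψ_alg := fun _ _ => rfl
    ψ_b := fun i k => by
      classical
      show (Module.Basis.ofEquivFun e k) i = b i k
      rw [Module.Basis.coe_ofEquivFun]
      show (b i).equivFun.symm (fun l => (Pi.single k (1 : ∀ i, R i) : Fin n → ∀ i, R i) l i) = b i k
      have : (fun l => (Pi.single k (1 : ∀ i, R i) : Fin n → ∀ i, R i) l i) = Pi.single k (1 : R i) := by
        funext l
        rcases eq_or_ne l k with rfl | h
        · simp
        · simp [h]
      rw [this]
      exact (b i).equivFun.symm_apply_eq.2 (by funext l; simp [Pi.single_apply, Finsupp.single_apply, eq_comm]) }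

end Pi

section Tensor

variable {M N : Type u} [CommRing M] [Algebra (∀ i, R i) M] [CommRing N] [Algebra (∀ i, R i) N]
  {Mi Ni : ι → Type u} [∀ i, CommRing (Mi i)] [∀ i, Algebra (R i) (Mi i)] [∀ i, CommRing (Ni i)]
  [∀ i, Algebra (R i) (Ni i)] (D : Comp R M Mi) (E : Comp R N Ni)

/-- The component of a tensor product. -/
noncomputable def tensorψ (i : ι) : M ⊗[∀ i, R i] N →+* Mi i ⊗[R i] Ni i :=
  letI : Algebra (∀ i, R i) (Mi i ⊗[R i] Ni i) :=
    ((algebraMap (R i) (Mi i ⊗[R i] Ni i)).comp (Pi.evalRingHom R i)).toAlgebra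
  (Algebra.TensorProduct.productMap
    (R := ∀ i, R i)
    { toRingHom := (Algebra.TensorProduct.includeLeftRingHom : Mi i →+* Mi i ⊗[R i] Ni i).comp (D.ψ i)
      commutes' := fun c => by
        show Algebra.TensorProduct.includeLeftRingHom (D.ψ i (algebraMap _ M c)) = _
        rw [D.ψ_alg]; rfl }
    { toRingHom := ((Algebra.TensorProduct.includeRight : Ni i →ₐ[R i] Mi i ⊗[R i] Ni i) : Ni i →+* _).comp (E.ψ i)
      commutes' := fun c => by
        show (Algebra.TensorProduct.includeRight : Ni i →ₐ[R i] Mi i ⊗[R i] Ni i) (E.ψ i (algebraMap _ N c)) = _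
        rw [E.ψ_alg]
        exact (Algebra.TensorProduct.includeRight : Ni i →ₐ[R i] Mi i ⊗[R i] Ni i).commutes (c i) }).toRingHom

theorem tensorψ_tmul (i : ι) (x : M) (y : N) : tensorψ D E i (x ⊗ₜ y) = D.ψ i x ⊗ₜ E.ψ i y := by
  show (Algebra.TensorProduct.includeLeftRingHom : Mi i →+* Mi i ⊗[R i] Ni i) (D.ψ i x) *
    (Algebra.TensorProduct.includeRight : Ni i →ₐ[R i] Mi i ⊗[R i] Ni i) (E.ψ i y) = _
  simp

/-- The tensor product of componentwise algebras. -/
noncomputable def Comp.tensor : Comp R (M ⊗[∀ i, R i] N) (fun i => Mi i ⊗[R i] Ni i) where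
  κ := D.κ × E.κ
  fin := haveI := D.fin; haveI := E.fin; inferInstance
  b := D.b.tensorProduct E.b
  bi i := (D.bi i).tensorProduct (E.bi i)
  ψ := tensorψ D E
  ψ_alg i c := by
    rw [Algebra.TensorProduct.algebraMap_apply, tensorψ_tmul, map_one, D.ψ_alg,
      Algebra.TensorProduct.algebraMap_apply]
  ψ_b i k := by
    rw [Module.Basis.tensorProduct_apply', tensorψ_tmul, D.ψ_b, E.ψ_b, Module.Basis.tensorProduct_apply']

end Tensor

/-- Morphisms into an affine scheme over an affine base are determined and exist componentwise. -/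
theorem bijective_points {T : Scheme.{u}} [IsAffine T] {X : Over T} [IsAffine X.left] {V : Over T} {B : Type u}
    [CommRing B] (e : V.left ⟶ Spec (CommRingCat.of B)) [IsIso e] {B' : ι → Type u} [∀ i, CommRing (B' i)]
    (V' : ι → Over T) (e' : ∀ i, (V' i).left ⟶ Spec (CommRingCat.of (B' i))) [∀ i, IsIso (e' i)]
    (ψ : ∀ i, B →+* B' i) (hψ : Function.Bijective (RingHom.pi ψ)) (k : ∀ i, V' i ⟶ V)
    (hk : ∀ i, (k i).left ≫ e = e' i ≫ Spec.map (CommRingCat.ofHom (ψ i))) :
    Function.Bijective (fun (x : V ⟶ X) i => k i ≫ x) := by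
  have key : ∀ {Y : Scheme.{u}} [IsAffine Y] (x y : Spec (CommRingCat.of B) ⟶ Y),
      (∀ i, Spec.map (CommRingCat.ofHom (ψ i)) ≫ x = Spec.map (CommRingCat.ofHom (ψ i)) ≫ y) → x = y := by
    intro Y _ x y h
    rw [← cancel_mono Y.isoSpec.hom]
    refine (Spec.map_preimage _).symm.trans ((congrArg Spec.map ?_).trans (Spec.map_preimage _))
    refine CommRingCat.hom_ext (RingHom.ext fun z => hψ.1 (funext fun i => ?_))
    have h' : Spec.map (Spec.preimage (x ≫ Y.isoSpec.hom) ≫ CommRingCat.ofHom (ψ i)) =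
        Spec.map (Spec.preimage (y ≫ Y.isoSpec.hom) ≫ CommRingCat.ofHom (ψ i)) := by
      rw [Spec.map_comp, Spec.map_comp, Spec.map_preimage, Spec.map_preimage, reassoc_of% h i]
    exact congrArg (fun φ : _ ⟶ CommRingCat.of (B' i) => φ.hom z) (Spec.map_injective h')
  constructor
  · intro x y h
    refine Over.OverMorphism.ext ((cancel_epi (inv e)).1 (key _ _ fun i => ?_))
    rw [← cancel_epi (e' i)]
    have hi := congrArg CommaMorphism.left (congrFun h i)
    simp only [Over.comp_left] at hi
    rw [← reassoc_of% hk i, ← reassoc_of% hk i, IsIso.hom_inv_id_assoc, IsIso.hom_inv_id_assoc]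
    exact hi
  · intro y
    let h : ∀ i, Γ(X.left, ⊤) ⟶ CommRingCat.of (B' i) := fun i =>
      Spec.preimage (inv (e' i) ≫ (y i).left ≫ X.left.isoSpec.hom)
    let inv' : (∀ i, B' i) →+* B := (RingEquiv.ofBijective (RingHom.pi ψ) hψ).symm.toRingHom
    let φ : Γ(X.left, ⊤) ⟶ CommRingCat.of B := CommRingCat.ofHom (inv'.comp (RingHom.pi fun i => (h i).hom))
    let x₀ : Spec (CommRingCat.of B) ⟶ X.left := Spec.map φ ≫ X.left.isoSpec.inv
    have hx₀ : ∀ i, Spec.map (CommRingCat.ofHom (ψ i)) ≫ x₀ = inv (e' i) ≫ (y i).left := by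
      intro i
      have : φ ≫ CommRingCat.ofHom (ψ i) = h i := CommRingCat.hom_ext (RingHom.ext fun z =>
        congrFun ((RingEquiv.ofBijective (RingHom.pi ψ) hψ).apply_symm_apply (RingHom.pi (fun i => (h i).hom) z)) i)
      rw [← Spec.map_comp_assoc, this, Spec.map_preimage]
      simp
    have hw : (e ≫ x₀) ≫ X.hom = V.hom := by
      refine (cancel_epi (inv e)).1 ?_
      rw [Category.assoc, IsIso.inv_hom_id_assoc]
      refine key _ _ fun i => ?_
      rw [reassoc_of% hx₀ i, Over.w (y i), ← cancel_epi (e' i), IsIso.hom_inv_id_assoc, ← reassoc_of% hk i,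
        IsIso.hom_inv_id_assoc, Over.w (k i)]
    refine ⟨Over.homMk (e ≫ x₀) hw, funext fun i => Over.OverMorphism.ext ?_⟩
    show (k i).left ≫ e ≫ x₀ = _
    rw [reassoc_of% hk i, hx₀ i, IsIso.hom_inv_id_assoc]

end Groth.Agent.TorsPi79
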