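import Groth.Agent.TorsPi79.Comp
import Groth.Agent.GmField79.HOne
import Groth.Agent.Adeq2Lib.AffineVanish

/-!
# Cech objects under a change of base and covering
-/

set_option autoImplicit false

universe u

open CategoryTheory CategoryTheory.Limits Opposite AlgebraicGeometry TensorProduct
open Groth.Agent.Adeq2Lib
open Groth.Agent.GmField79 (sq sq_π_zero sq_π_one isPullback_sq)

namespace Groth.Agent.TorsPi79

open AffVan CechSingle CechAffine

section Cube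

variable (R : CommRingCat.{u}) (B : Type u) [CommRing B] [Algebra R B]

/-- The inclusion of the first factor of the cube. -/
noncomputable def in₀ : B →ₐ[R] B ⊗[R] (B ⊗[R] B) := Algebra.TensorProduct.includeLeft

/-- The inclusion of the second factor of the cube. -/
noncomputable def in₁ : B →ₐ[R] B ⊗[R] (B ⊗[R] B) :=
  (Algebra.TensorProduct.includeRight : B ⊗[R] B →ₐ[R] B ⊗[R] (B ⊗[R] B)).comp Algebra.TensorProduct.includeLeft

/-- The inclusion of the third factor of the cube. -/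
noncomputable def in₂ : B →ₐ[R] B ⊗[R] (B ⊗[R] B) :=
  (Algebra.TensorProduct.includeRight : B ⊗[R] B →ₐ[R] B ⊗[R] (B ⊗[R] B)).comp Algebra.TensorProduct.includeRight

/-- The cube of the covering object. -/
noncomputable def cube : sp R (Adeq.algOf R (B ⊗[R] (B ⊗[R] B))) ⟶ pw (X₀ (R := R) B) 2 :=
  Pi.lift ![spMap R (CommAlgCat.ofHom (in₀ R B)), spMap R (CommAlgCat.ofHom (in₁ R B)), spMap R (CommAlgCat.ofHom (in₂ R B))]

theorem exists_split_cube : ∃ s : pw (X₀ (R := R) B) 2 ⟶ sp R (Adeq.algOf R (B ⊗[R] (B ⊗[R] B))), s ≫ cube R B = 𝟙 _ := by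
  let X := X₀ (R := R) B
  let π : ∀ j, pw X 2 ⟶ X := fun j => Pi.π (fun _ : Fin 3 => X) j
  let inner : pw X 2 ⟶ sp R (Adeq.algOf R (B ⊗[R] B)) :=
    (Pi.lift ![π 1, π 2] : pw X 2 ⟶ pw X 1) ≫ inv (sq (R := R) B)
  have hp : IsPullback
      (Spec.map (CommRingCat.ofHom (Algebra.TensorProduct.includeLeftRingHom : B →+* B ⊗[R] (B ⊗[R] B))))
      (Spec.map (CommRingCat.ofHom (Algebra.TensorProduct.includeRight.toRingHom : B ⊗[R] B →+* B ⊗[R] (B ⊗[R] B))))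
      (Spec.map (CommRingCat.ofHom (algebraMap R B))) (Spec.map (CommRingCat.ofHom (algebraMap R (B ⊗[R] B)))) :=
    isPullback_SpecMap_of_isPushout _ _ _ _ (CommRingCat.isPushout_tensorProduct R B (B ⊗[R] B))
  have hw : (π 0).left ≫ Spec.map (CommRingCat.ofHom (algebraMap R B)) =
      inner.left ≫ Spec.map (CommRingCat.ofHom (algebraMap R (B ⊗[R] B))) := by
    have h0 := Over.w (π 0)
    have h1 := Over.w inner
    rw [sp_hom] at h0 h1
    exact h0.trans h1.symm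
  let L := hp.lift (π 0).left inner.left hw
  let s : pw X 2 ⟶ sp R (Adeq.algOf R (B ⊗[R] (B ⊗[R] B))) := Over.homMk L (by
    refine Eq.trans ?_ (Over.w (π 0))
    show L ≫ (sp R (Adeq.algOf R (B ⊗[R] (B ⊗[R] B)))).hom = (π 0).left ≫ (sp R (Adeq.algOf R B)).hom
    rw [sp_hom, sp_hom]
    refine Eq.trans ?_ (congrArg (· ≫ Spec.map (CommRingCat.ofHom (algebraMap R B))) (hp.lift_fst (π 0).left inner.left hw))
    rw [Category.assoc, ← Spec.map_comp]
    exact congrArg (fun z => L ≫ Spec.map z) (CommRingCat.hom_ext (RingHom.ext fun c => rfl)))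
  refine ⟨s, ?_⟩
  have k0 : s ≫ spMap R (CommAlgCat.ofHom (in₀ R B)) = π 0 := Over.OverMorphism.ext (hp.lift_fst _ _ hw)
  have k : s ≫ spMap R (CommAlgCat.ofHom (Algebra.TensorProduct.includeRight :
      B ⊗[R] B →ₐ[R] B ⊗[R] (B ⊗[R] B))) = inner := Over.OverMorphism.ext (hp.lift_snd _ _ hw)
  have hcomp : ∀ (q : B →ₐ[R] B ⊗[R] B), spMap R (CommAlgCat.ofHom
      ((Algebra.TensorProduct.includeRight : B ⊗[R] B →ₐ[R] B ⊗[R] (B ⊗[R] B)).comp q)) =
      spMap R (CommAlgCat.ofHom (Algebra.TensorProduct.includeRight : B ⊗[R] B →ₐ[R] B ⊗[R] (B ⊗[R] B)) :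
        Adeq.algOf R (B ⊗[R] B) ⟶ Adeq.algOf R (B ⊗[R] (B ⊗[R] B))) ≫
        spMap R (CommAlgCat.ofHom q : Adeq.algOf R B ⟶ Adeq.algOf R (B ⊗[R] B)) := fun q => by
    show _ = _
    rw [spMap, spMap, spMap, ← Functor.map_comp, ← op_comp]
    rfl
  have ki : inner ≫ sq (R := R) B = Pi.lift ![π 1, π 2] := by
    simp only [inner, Category.assoc, IsIso.inv_hom_id, Category.comp_id]
  refine Pi.hom_ext _ _ fun j => ?_
  rw [Category.assoc, Category.id_comp, cube, Pi.lift_π]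
  fin_cases j
  · exact k0
  · show s ≫ spMap R (CommAlgCat.ofHom (in₁ R B)) = π 1
    rw [in₁, hcomp, ← Category.assoc, k, ← sq_π_zero, ← Category.assoc, ki, Pi.lift_π]
    rfl
  · show s ≫ spMap R (CommAlgCat.ofHom (in₂ R B)) = π 2
    rw [in₂, hcomp, ← Category.assoc, k, ← sq_π_one, ← Category.assoc, ki, Pi.lift_π]
    rfl

end Cube

section Change

variable {R R' : CommRingCat.{u}} (q : R ⟶ R') {T : Scheme.{u}} (a : Spec R ⟶ T)
  (B : Type u) [CommRing B] [Algebra R B] (B' : Type u) [CommRing B'] [Algebra R' B'] (ψ : B →+* B')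
  (hψ : ∀ c, ψ (algebraMap R B c) = algebraMap R' B' (q.hom c))

/-- The comparison of coverings. -/
noncomputable def cmpX : (Over.map (Spec.map q)).obj (X₀ (R := R') B') ⟶ X₀ (R := R) B :=
  Over.homMk (Spec.map (CommRingCat.ofHom ψ)) (by
    show Spec.map _ ≫ (X₀ (R := R) B).hom = (X₀ (R := R') B').hom ≫ Spec.map q
    rw [sp_hom, sp_hom]
    show Spec.map _ ≫ Spec.map _ = Spec.map _ ≫ Spec.map _
    rw [← Spec.map_comp, ← Spec.map_comp]
    exact congrArg Spec.map (CommRingCat.hom_ext (RingHom.ext fun c => hψ c)))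

/-- The comparison of powers of coverings. -/
noncomputable def cmpPw (n : ℕ) : (Over.map (Spec.map q)).obj (pw (X₀ (R := R') B') n) ⟶ pw (X₀ (R := R) B) n :=
  Pi.lift fun j => (Over.map (Spec.map q)).map (Pi.π (fun _ : Fin (n + 1) => X₀ (R := R') B') j) ≫ cmpX q B B' ψ hψ

theorem cmpPw_π (n : ℕ) (j : Fin (n + 1)) : cmpPw q B B' ψ hψ n ≫ Pi.π (fun _ : Fin (n + 1) => X₀ (R := R) B) j =
    (Over.map (Spec.map q)).map (Pi.π (fun _ : Fin (n + 1) => X₀ (R := R') B') j) ≫ cmpX q B B' ψ hψ :=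
  Pi.lift_π _ _

/-- The comparison over the base scheme. -/
noncomputable def cmp (n : ℕ) :
    (Over.map (Spec.map q ≫ a)).obj (pw (X₀ (R := R') B') n) ⟶ (Over.map a).obj (pw (X₀ (R := R) B) n) :=
  Over.homMk (cmpPw q B B' ψ hψ n).left (by
    show (cmpPw q B B' ψ hψ n).left ≫ (pw (X₀ (R := R) B) n).hom ≫ a =
      (pw (X₀ (R := R') B') n).hom ≫ Spec.map q ≫ a
    rw [Over.w_assoc]
    exact Category.assoc _ _ _)

theorem cmp_fc (n : ℕ) (j : Fin (n + 2)) :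
    (Over.map (Spec.map q ≫ a)).map (fc (X₀ (R := R') B') j) ≫ cmp q a B B' ψ hψ n =
      cmp q a B B' ψ hψ (n + 1) ≫ (Over.map a).map (fc (X₀ (R := R) B) j) := by
  have h1 : (Over.map (Spec.map q)).map (fc (X₀ (R := R') B') j) ≫ cmpPw q B B' ψ hψ n =
      cmpPw q B B' ψ hψ (n + 1) ≫ fc (X₀ (R := R) B) j :=
    Pi.hom_ext _ _ fun l => by
      rw [Category.assoc, cmpPw_π, ← Category.assoc, ← Functor.map_comp, fc_π, Category.assoc, fc_π, cmpPw_π]
  have h2 := congrArg CommaMorphism.left h1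
  exact Over.OverMorphism.ext h2

theorem D_cmp (F : AbT T) (n : ℕ) (x : (pr F a).obj (op (pw (X₀ (R := R) B) n))) :
    rA F (cmp q a B B' ψ hψ (n + 1)) (D (X₀ (R := R) B) (pr F a) n x) =
      D (X₀ (R := R') B') (pr F (Spec.map q ≫ a)) n (rA F (cmp q a B B' ψ hψ n) x) := by
  rw [D_apply, D_apply, map_sum]
  refine Finset.sum_congr rfl fun j _ => ?_
  rw [map_zsmul]
  show (-1 : ℤ) ^ (j : ℕ) • rA F (cmp q a B B' ψ hψ (n + 1)) (rA F ((Over.map a).map (fc _ j)) x) =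
    (-1 : ℤ) ^ (j : ℕ) • rA F ((Over.map (Spec.map q ≫ a)).map (fc _ j)) (rA F (cmp q a B B' ψ hψ n) x)
  rw [rA_comp, rA_comp, cmp_fc]

theorem cmp_zero :
    cmp q a B B' ψ hψ 0 ≫ (Over.map a).map (Pi.π (fun _ : Fin 1 => X₀ (R := R) B) 0) ≫ covMap a B =
      ((Over.map (Spec.map q ≫ a)).map (Pi.π (fun _ : Fin 1 => X₀ (R := R') B') 0) ≫ covMap (Spec.map q ≫ a) B') ≫
        (Over.homMk (Spec.map q) rfl : Over.mk (Spec.map q ≫ a) ⟶ Over.mk a) := by
  refine Over.OverMorphism.ext ?_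
  show (cmpPw q B B' ψ hψ 0).left ≫ (Pi.π (fun _ : Fin 1 => X₀ (R := R) B) 0).left ≫ (X₀ (R := R) B).hom =
    ((Pi.π (fun _ : Fin 1 => X₀ (R := R') B') 0).left ≫ (X₀ (R := R') B').hom) ≫ Spec.map q
  rw [Over.w, Over.w, Over.w]
  rfl

set_option maxHeartbeats 1600000 in
theorem cmp_one (ψ₂ : B ⊗[R] B →+* B' ⊗[R'] B') (h₂ : ∀ b c, ψ₂ (b ⊗ₜ c) = ψ b ⊗ₜ ψ c) :
    (cmp q a B B' ψ hψ 1).left ≫ (inv (sq (R := R) B)).left =
      (inv (sq (R := R') B')).left ≫ Spec.map (CommRingCat.ofHom ψ₂) := by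
  let S₂ : (Over.map (Spec.map q)).obj (sp R' (Adeq.algOf R' (B' ⊗[R'] B'))) ⟶
      sp R (Adeq.algOf R (B ⊗[R] B)) := Over.homMk (Spec.map (CommRingCat.ofHom ψ₂)) (by
    show Spec.map _ ≫ _ = (sp R' _).hom ≫ Spec.map q
    rw [sp_hom, sp_hom]
    show Spec.map _ ≫ Spec.map _ = Spec.map _ ≫ Spec.map _
    rw [← Spec.map_comp, ← Spec.map_comp]
    refine congrArg Spec.map (CommRingCat.hom_ext (RingHom.ext fun c => ?_))
    show ψ₂ (algebraMap R B c ⊗ₜ 1) = algebraMap R' B' (q.hom c) ⊗ₜ 1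
    rw [h₂, hψ, map_one])
  have h : (Over.map (Spec.map q)).map (sq (R := R') B') ≫ cmpPw q B B' ψ hψ 1 = S₂ ≫ sq (R := R) B := by
    refine Pi.hom_ext _ _ fun j => ?_
    rw [Category.assoc, Category.assoc, cmpPw_π, ← Category.assoc, ← Functor.map_comp]
    fin_cases j
    · erw [sq_π_zero, sq_π_zero]
      refine Over.OverMorphism.ext ?_
      show Spec.map _ ≫ Spec.map _ = Spec.map _ ≫ Spec.map _
      rw [← Spec.map_comp, ← Spec.map_comp]
      refine congrArg Spec.map (CommRingCat.hom_ext (RingHom.ext fun x => ?_))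
      show ψ x ⊗ₜ[R'] (1 : B') = ψ₂ (x ⊗ₜ 1)
      rw [h₂, map_one]
    · erw [sq_π_one, sq_π_one]
      refine Over.OverMorphism.ext ?_
      show Spec.map _ ≫ Spec.map _ = Spec.map _ ≫ Spec.map _
      rw [← Spec.map_comp, ← Spec.map_comp]
      refine congrArg Spec.map (CommRingCat.hom_ext (RingHom.ext fun x => ?_))
      show (1 : B') ⊗ₜ[R'] ψ x = ψ₂ (1 ⊗ₜ x)
      rw [h₂, map_one]
  have h' : cmpPw q B B' ψ hψ 1 ≫ inv (sq (R := R) B) =
      (Over.map (Spec.map q)).map (inv (sq (R := R') B')) ≫ S₂ := by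
    rw [IsIso.comp_inv_eq, Category.assoc, ← h, ← Category.assoc, ← Functor.map_comp, IsIso.inv_hom_id,
      CategoryTheory.Functor.map_id]
    exact (Category.id_comp _).symm
  exact congrArg CommaMorphism.left h'

set_option maxHeartbeats 1600000 in
theorem cmp_two (ψ₃ : B ⊗[R] (B ⊗[R] B) →+* B' ⊗[R'] (B' ⊗[R'] B'))
    (h₃ : ∀ b c d, ψ₃ (b ⊗ₜ (c ⊗ₜ d)) = ψ b ⊗ₜ (ψ c ⊗ₜ ψ d)) :
    (cube R' B').left ≫ (cmp q a B B' ψ hψ 2).left = Spec.map (CommRingCat.ofHom ψ₃) ≫ (cube R B).left := by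
  let S₃ : (Over.map (Spec.map q)).obj (sp R' (Adeq.algOf R' (B' ⊗[R'] (B' ⊗[R'] B')))) ⟶
      sp R (Adeq.algOf R (B ⊗[R] (B ⊗[R] B))) := Over.homMk (Spec.map (CommRingCat.ofHom ψ₃)) (by
    show Spec.map _ ≫ _ = (sp R' _).hom ≫ Spec.map q
    rw [sp_hom, sp_hom]
    show Spec.map _ ≫ Spec.map _ = Spec.map _ ≫ Spec.map _
    rw [← Spec.map_comp, ← Spec.map_comp]
    refine congrArg Spec.map (CommRingCat.hom_ext (RingHom.ext fun c => ?_))
    show ψ₃ (algebraMap R B c ⊗ₜ (1 ⊗ₜ 1)) = algebraMap R' B' (q.hom c) ⊗ₜ (1 ⊗ₜ 1)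
    rw [h₃, hψ, map_one])
  have h : (Over.map (Spec.map q)).map (cube R' B') ≫ cmpPw q B B' ψ hψ 2 = S₃ ≫ cube R B := by
    refine Pi.hom_ext _ _ fun j => ?_
    rw [Category.assoc, Category.assoc, cmpPw_π, ← Category.assoc, ← Functor.map_comp, cube, cube]
    erw [Pi.lift_π, Pi.lift_π]
    fin_cases j <;>
    · refine Over.OverMorphism.ext ?_
      show Spec.map _ ≫ Spec.map _ = Spec.map _ ≫ Spec.map _
      rw [← Spec.map_comp, ← Spec.map_comp]
      refine congrArg Spec.map (CommRingCat.hom_ext (RingHom.ext fun x => ?_))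
      first
        | show ψ x ⊗ₜ[R'] ((1 : B') ⊗ₜ[R'] (1 : B')) = ψ₃ (x ⊗ₜ (1 ⊗ₜ 1))
        | show (1 : B') ⊗ₜ[R'] (ψ x ⊗ₜ[R'] (1 : B')) = ψ₃ (1 ⊗ₜ (x ⊗ₜ 1))
        | show (1 : B') ⊗ₜ[R'] ((1 : B') ⊗ₜ[R'] ψ x) = ψ₃ (1 ⊗ₜ (1 ⊗ₜ x))
      rw [h₃]
      simp
  exact congrArg CommaMorphism.left h

end Change

end Groth.Agent.TorsPi79
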