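import Groth.Agent.TorsPi79.Rank
import Groth.Agent.TorsPi79.Compare
import Groth.Agent.GmField79.HOne

/-!
# Lifting sections over a product of local rings, factor by factor
-/

set_option autoImplicit false

universe u

open CategoryTheory CategoryTheory.Limits Opposite AlgebraicGeometry TensorProduct
open Groth.Agent.Adeq2Lib
open Groth.Agent.GmField79 (sq sq_π_zero sq_π_one isPullback_sq)

namespace Groth.Agent.TorsPi79

open AffVan CechSingle CechAffine

variable {T : Scheme.{u}} [IsAffine T] {G : Over T} [GrpObj G] [IsCommMonObj G] [IsFinite G.hom]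
variable {I Q : AbT T} (f : CGrpSh.pts Scheme.fppfPrecoverage G ⟶ I) (g : I ⟶ Q) (w : f ≫ g = 0)
  (hE : (ShortComplex.mk f g w).ShortExact)
variable {ι : Type u} (R : ι → Type u) [∀ i, CommRing (R i)]

/-- The inclusion of a factor. -/
noncomputable abbrev fac (i : ι) : Spec (CommRingCat.of (R i)) ⟶ Spec (CommRingCat.of (∀ i, R i)) :=
  Spec.map (CommRingCat.ofHom (Pi.evalRingHom R i))

variable {R} (a : Spec (CommRingCat.of (∀ i, R i)) ⟶ T)

/-- The inclusion of a factor, over the base. -/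
noncomputable abbrev facO (i : ι) : Over.mk (fac R i ≫ a) ⟶ Over.mk a := Over.homMk (fac R i) rfl

include hE in
/-- A section lifts over a product if it lifts over every factor. -/
theorem exists_lift_of_factors (s : Q.obj.obj (op (Over.mk a)))
    (h : ∀ i, ∃ z, (g.hom.app (op (Over.mk (fac R i ≫ a)))).hom z = rA Q (facO a i) s) :
    ∃ z, (g.hom.app (op (Over.mk a))).hom z = s := by
  haveI := hE.epi_g
  obtain ⟨B, _, _, _, _, t, ht⟩ := exists_lift_single a g s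
  obtain ⟨P, j, y, hjA, hy, huniv, -⟩ := exists_torsor f g w hE a s B t ht
  choose z hz using h
  choose k hk using fun i => huniv _ (facO a i) (z i) (hz i)
  haveI : IsAffine P.left :=
    @isAffine_of_isAffineHom P.left (Spec (CommRingCat.of (∀ i, R i))) j.left hjA
      (inferInstance : IsAffine (Spec (CommRingCat.of (∀ i, R i))))
  have hb : ∀ (X : Over T) [IsAffine X.left],
      Function.Bijective (fun (x : Over.mk a ⟶ X) i => facO a i ≫ x) := fun X _ =>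
    bijective_points (V := Over.mk a) (B := ∀ i, R i) (𝟙 _) (B' := R) (fun i => Over.mk (fac R i ≫ a))
      (fun _ => 𝟙 _) (Pi.evalRingHom R) Function.bijective_id (facO a) fun i => by
        rw [Category.id_comp]; exact Category.comp_id _
  obtain ⟨x, hx⟩ := (hb P).2 k
  haveI : IsAffine (Over.mk a).left := (inferInstance : IsAffine (Spec (CommRingCat.of (∀ i, R i))))
  have hxj : x ≫ j = 𝟙 (Over.mk a) := (hb (Over.mk a)).1 (funext fun i => by
    have e : facO a i ≫ x = k i := congrFun hx i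
    show facO a i ≫ x ≫ j = facO a i ≫ 𝟙 _
    rw [← Category.assoc, e, hk i, Category.comp_id])
  refine ⟨rA I x y, ?_⟩
  rw [show (g.hom.app _).hom (rA I x y) = rA Q x ((g.hom.app _).hom y) from NatTrans.naturality_apply g.hom x.op y,
    hy, rA_comp, hxj, rA_id]

section Generic

variable {O : CommRingCat.{u}} {Rc : ι → CommRingCat.{u}} (qs : ∀ i, O ⟶ Rc i) (aO : Spec O ⟶ T)
  {AA : Type u} [CommRing AA] [Algebra O AA]
  (A : ι → Type u) [∀ i, CommRing (A i)] [∀ i, Algebra (Rc i) (A i)] (ψ : ∀ i, AA →+* A i)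
  (hψ : ∀ i c, ψ i (algebraMap O AA c) = algebraMap (Rc i) (A i) ((qs i).hom c))

/-- The comparison maps of the components. -/
noncomputable abbrev κ' (i : ι) (n : ℕ) :=
  cmp (R := O) (R' := Rc i) (qs i) aO AA
    (A i) (ψ i) (hψ i) n

theorem bijective_sq [IsAffine G.left]
    (ψ₂ : ∀ i, AA ⊗[O] AA →+* A i ⊗[Rc i] A i)
    (h₂ : ∀ i b c, ψ₂ i (b ⊗ₜ c) = ψ i b ⊗ₜ ψ i c) (hb : Function.Bijective (RingHom.pi ψ₂)) :
    Function.Bijective (fun (x : (Over.map aO).obj (pw (X₀ (R := O) AA) 1) ⟶ G) i =>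
      κ' qs aO A ψ hψ i 1 ≫ x) := by
  let X := X₀ (R := O) AA
  let e₂ : ((Over.map aO).obj (pw X 1)).left ⟶
      Spec (CommRingCat.of (AA ⊗[O] AA)) :=
    (inv (sq (R := O) AA)).left
  haveI : IsIso e₂ := Functor.map_isIso (Over.forget _) (inv (sq (R := O) AA))
  let e₂i : ∀ i, ((Over.map (Spec.map (qs i) ≫ aO)).obj (pw (X₀ (R := Rc i) (A i)) 1)).left ⟶
      Spec (CommRingCat.of (A i ⊗[Rc i] A i)) :=
    fun i => (inv (sq (R := Rc i) (A i))).left
  haveI : ∀ i, IsIso (e₂i i) := fun i => Functor.map_isIso (Over.forget _) (inv (sq (R := Rc i) (A i)))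
  exact bijective_points (V := (Over.map aO).obj (pw X 1)) e₂
    (fun i => (Over.map (Spec.map (qs i) ≫ aO)).obj (pw (X₀ (R := Rc i) (A i)) 1))
    e₂i ψ₂ hb (fun i => κ' qs aO A ψ hψ i 1) fun i => cmp_one _ aO AA (A i) (ψ i) (hψ i) (ψ₂ i) (h₂ i)

set_option maxHeartbeats 800000 in
theorem eq_zero_cube [IsAffine G.left]
    (ψ₃ : ∀ i, AA ⊗[O] (AA ⊗[O] AA) →+*
      A i ⊗[Rc i] (A i ⊗[Rc i] A i))
    (h₃ : ∀ i b c d, ψ₃ i (b ⊗ₜ (c ⊗ₜ d)) = ψ i b ⊗ₜ (ψ i c ⊗ₜ ψ i d)) (hb : Function.Bijective (RingHom.pi ψ₃))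
    (x : (pr (CGrpSh.pts Scheme.fppfPrecoverage G) aO).obj (op (pw (X₀ (R := O) AA) 2)))
    (hx : ∀ i, rA (CGrpSh.pts Scheme.fppfPrecoverage G) (κ' qs aO A ψ hψ i 2) x = 0) : x = 0 := by
  obtain ⟨sp₃, hsp₃⟩ := exists_split_cube O AA
  have e0 : x = rA (CGrpSh.pts Scheme.fppfPrecoverage G) ((Over.map aO).map sp₃)
      (rA (CGrpSh.pts Scheme.fppfPrecoverage G) ((Over.map aO).map (cube O AA)) x) := by
    rw [rA_comp, ← Functor.map_comp, hsp₃, CategoryTheory.Functor.map_id]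
    exact (rA_id (CGrpSh.pts Scheme.fppfPrecoverage G) x).symm
  let V := (Over.map aO).obj (sp O (Adeq.algOf O (AA ⊗[O] (AA ⊗[O] AA))))
  let Vi : ι → Over T := fun i => (Over.map (Spec.map (qs i) ≫ aO)).obj (sp (Rc i)
      (Adeq.algOf _ (A i ⊗[Rc i] (A i ⊗[Rc i] A i))))
  let e₃ : V.left ⟶ Spec (CommRingCat.of (AA ⊗[O] (AA ⊗[O] AA))) := 𝟙 _
  haveI : IsIso e₃ := IsIso.id _
  let e₃i : ∀ i, (Vi i).left ⟶ Spec (CommRingCat.of (A i ⊗[Rc i] (A i ⊗[Rc i] A i))) := fun i => 𝟙 _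
  haveI : ∀ i, IsIso (e₃i i) := fun i => IsIso.id _
  have hcomm : ∀ i, Spec.map (CommRingCat.ofHom (ψ₃ i)) ≫ V.hom = (Vi i).hom := by
    intro i
    show Spec.map _ ≫ (sp O (Adeq.algOf O (AA ⊗[O] (AA ⊗[O] AA)))).hom ≫ aO =
      (sp (Rc i) (Adeq.algOf (Rc i) (A i ⊗[Rc i] (A i ⊗[Rc i] A i)))).hom ≫ Spec.map (qs i) ≫ aO
    rw [sp_hom, sp_hom]
    show Spec.map _ ≫ Spec.map _ ≫ aO = Spec.map _ ≫ Spec.map _ ≫ aO
    rw [← Spec.map_comp_assoc, ← Spec.map_comp_assoc]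
    refine congrArg (fun z => Spec.map z ≫ aO) (CommRingCat.hom_ext (RingHom.ext fun c => ?_))
    show ψ₃ i (algebraMap O AA c ⊗ₜ (1 ⊗ₜ 1)) = algebraMap (Rc i) (A i) ((qs i).hom c) ⊗ₜ (1 ⊗ₜ 1)
    rw [h₃, hψ, map_one]
  let k : ∀ i, Vi i ⟶ V := fun i => Over.homMk (Spec.map (CommRingCat.ofHom (ψ₃ i))) (hcomm i)
  have hinj := (bijective_points (X := G) e₃ Vi e₃i ψ₃ hb k fun i => by
    show Spec.map _ ≫ 𝟙 _ = 𝟙 _ ≫ Spec.map _
    rw [Category.comp_id, Category.id_comp]).1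
  rw [e0]
  have e1 : rA (CGrpSh.pts Scheme.fppfPrecoverage G) ((Over.map aO).map (cube O AA)) x = 0 := by
    refine ULift.ext _ _ (Additive.toMul.injective (hinj (funext fun i => ?_)))
    have h3 := congrArg (rA (CGrpSh.pts Scheme.fppfPrecoverage G)
      ((Over.map (Spec.map (qs i) ≫ aO)).map (cube (Rc i) (A i)))) (hx i)
    rw [rA_comp, map_zero] at h3
    have h4 : (Over.map (Spec.map (qs i) ≫ aO)).map (cube (Rc i) (A i)) ≫ κ' qs aO A ψ hψ i 2 =
        k i ≫ (Over.map aO).map (cube O AA) :=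
      Over.OverMorphism.ext (cmp_two _ aO AA (A i) (ψ i) (hψ i) (ψ₃ i) (h₃ i))
    rw [h4, ← rA_comp] at h3
    have h6 : rA (CGrpSh.pts Scheme.fppfPrecoverage G) (k i)
        (0 : (CGrpSh.pts Scheme.fppfPrecoverage G).obj.obj _) = 0 := map_zero _
    exact congrArg (fun z => Additive.toMul z.down) (h3.trans h6.symm)
  rw [e1, map_zero]

include hE hψ in
/-- Gluing over aO fixed componentwise covering. -/
theorem exists_glue_sections_aux [Injective I] [IsAffine G.left]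
    [Module.FaithfullyFlat (O) AA]
    [LocallyOfFinitePresentation (Spec.map (CommRingCat.ofHom (algebraMap (O) AA)))]
    [∀ i, Module.FaithfullyFlat (Rc i) (A i)]
    [∀ i, LocallyOfFinitePresentation (Spec.map (CommRingCat.ofHom (algebraMap (Rc i) (A i))))]
    (ψ₂ : ∀ i, AA ⊗[O] AA →+* A i ⊗[Rc i] A i)
    (h₂ : ∀ i b c, ψ₂ i (b ⊗ₜ c) = ψ i b ⊗ₜ ψ i c) (hb₂ : Function.Bijective (RingHom.pi ψ₂))
    (ψ₃ : ∀ i, AA ⊗[O] (AA ⊗[O] AA) →+*
      A i ⊗[Rc i] (A i ⊗[Rc i] A i))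
    (h₃ : ∀ i b c d, ψ₃ i (b ⊗ₜ (c ⊗ₜ d)) = ψ i b ⊗ₜ (ψ i c ⊗ₜ ψ i d)) (hb₃ : Function.Bijective (RingHom.pi ψ₃))
    (sf : ∀ i, Q.obj.obj (op (Over.mk (Spec.map (qs i) ≫ aO))))
    (y : ∀ i, I.obj.obj (op (cov (R := Rc i) (Spec.map (qs i) ≫ aO) (A i))))
    (hy : ∀ i, (g.hom.app _).hom (y i) = rA Q (covMap (R := Rc i) (Spec.map (qs i) ≫ aO) (A i)) (sf i)) :
    ∃ s : Q.obj.obj (op (Over.mk aO)), ∀ i, ∃ z,
      (g.hom.app (op (Over.mk (Spec.map (qs i) ≫ aO)))).hom z = rA Q ((Over.homMk (Spec.map (qs i)) rfl : Over.mk (Spec.map (qs i) ≫ aO) ⟶ Over.mk aO)) s - sf i := by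
  let X := X₀ (R := O) AA
  let Xi : ∀ i, Over (Spec (Rc i)) := fun i => X₀ (R := Rc i) (A i)
  let κ := fun i n => κ' qs aO A ψ hψ i n
  have hD : ∀ (F : AbT T) i n (x : (pr F aO).obj (op (pw X n))),
      rA F (κ i (n + 1)) (D X (pr F aO) n x) = D (Xi i) (pr F (Spec.map (qs i) ≫ aO)) n (rA F (κ i n) x) :=
    fun F i n x => D_cmp _ aO AA (A i) (ψ i) (hψ i) F n x
  have hb1 := bijective_sq (G := G) qs aO A ψ hψ ψ₂ h₂ hb₂
  -- the cochains
  let f' : pr (CGrpSh.pts Scheme.fppfPrecoverage G) aO ⟶ pr I aO := Functor.whiskerLeft (Over.map aO).op f.hom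
  let g' : pr I aO ⟶ pr Q aO := Functor.whiskerLeft (Over.map aO).op g.hom
  let fi : ∀ i, pr (CGrpSh.pts Scheme.fppfPrecoverage G) (Spec.map (qs i) ≫ aO) ⟶ pr I (Spec.map (qs i) ≫ aO) := fun i =>
    Functor.whiskerLeft (Over.map (Spec.map (qs i) ≫ aO)).op f.hom
  let gi : ∀ i, pr I (Spec.map (qs i) ≫ aO) ⟶ pr Q (Spec.map (qs i) ≫ aO) := fun i =>
    Functor.whiskerLeft (Over.map (Spec.map (qs i) ≫ aO)).op g.hom
  have hexi : ∀ i U y, ((gi i).app (op U)).hom y = 0 ↔ ∃ x, ((fi i).app (op U)).hom x = y :=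
    fun i U => (secA_exact _ hE ((Over.map (Spec.map (qs i) ≫ aO)).obj U)).2
  have hinji : ∀ i U, Function.Injective ((fi i).app (op U)).hom :=
    fun i U => (secA_exact _ hE ((Over.map (Spec.map (qs i) ≫ aO)).obj U)).1
  let π₀ : ∀ i, (Over.map (Spec.map (qs i) ≫ aO)).obj (pw (Xi i) 0) ⟶ cov (R := Rc i) (Spec.map (qs i) ≫ aO) (A i) := fun i =>
    (Over.map (Spec.map (qs i) ≫ aO)).map (Pi.π (fun _ : Fin 1 => Xi i) 0)
  let t : ∀ i, (pr I (Spec.map (qs i) ≫ aO)).obj (op (pw (Xi i) 0)) := fun i => rA I (π₀ i) (y i)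
  have ht : ∀ i, ((gi i).app _).hom (t i) = rA Q (π₀ i ≫ covMap (Spec.map (qs i) ≫ aO) (A i)) (sf i) := fun i => by
    rw [← rA_comp]
    exact (ConcreteCategory.congr_hom (g.hom.naturality (π₀ i).op) (y i)).trans (congrArg (rA Q (π₀ i)) (hy i))
  choose c hc using fun i => (hexi i _ (D (Xi i) (pr I (Spec.map (qs i) ≫ aO)) 0 (t i))).1 (by rw [← D_nat, ht]; exact D_restr _ _ _ _)
  have hcD : ∀ i, D (Xi i) (pr (CGrpSh.pts Scheme.fppfPrecoverage G) (Spec.map (qs i) ≫ aO)) 1 (c i) = 0 := fun i =>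
    hinji i _ (by rw [← D_nat, hc, D_D, map_zero])
  obtain ⟨c₀, hc₀⟩ := hb1.2 fun i => Additive.toMul (c i).down
  let cG : (pr (CGrpSh.pts Scheme.fppfPrecoverage G) aO).obj (op (pw X 1)) := ULift.up (Additive.ofMul c₀)
  have hcG : ∀ i, rA (CGrpSh.pts Scheme.fppfPrecoverage G) (κ i 1) cG = c i := fun i =>
    ULift.ext _ _ (Additive.toMul.injective (congrFun hc₀ i))
  have hcGD : D X (pr (CGrpSh.pts Scheme.fppfPrecoverage G) aO) 1 cG = 0 :=
    eq_zero_cube qs aO A ψ hψ ψ₃ h₃ hb₃ _ fun i => by rw [hD, hcG, hcD]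
  obtain ⟨t₁, ht₁⟩ := acy_injective I O aO AA 0 ((f'.app _).hom cG) (by rw [D_nat, hcGD, map_zero])
  obtain ⟨s, hs⟩ := glue_cov Q aO AA ((g'.app _).hom t₁) (by
    rw [D_nat, ht₁]
    exact ((secA_exact _ hE ((Over.map aO).obj _)).2 _).2 ⟨cG, rfl⟩)
  refine ⟨s, fun i => ?_⟩
  let wi : (pr I (Spec.map (qs i) ≫ aO)).obj (op (pw (Xi i) 0)) := rA I (κ i 0) t₁ - t i
  have hwD : D (Xi i) (pr I (Spec.map (qs i) ≫ aO)) 0 wi = 0 := by
    rw [map_sub, ← hD, ht₁, ← hc i, sub_eq_zero]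
    exact ((ConcreteCategory.congr_hom (f.hom.naturality (κ i 1).op) cG).symm).trans
      (congrArg (f.hom.app _).hom (hcG i))
  obtain ⟨z, hz⟩ := glue_cov I (Spec.map (qs i) ≫ aO) (A i) wi hwD
  refine ⟨z, ext_cov Q (Spec.map (qs i) ≫ aO) (A i) _ _ ?_⟩
  have hiso : IsIso (π₀ i) := by
    haveI : IsIso (Pi.π (fun _ : Fin 1 => Xi i) 0) :=
      ⟨Pi.lift fun _ => 𝟙 _, Pi.hom_ext _ _ fun l => by
        obtain rfl : l = 0 := Fin.eq_zero l
        rw [Category.assoc, Pi.lift_π, Category.comp_id, Category.id_comp], Pi.lift_π _ _⟩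
    infer_instance
  have hinv : ∀ v v', rA Q (π₀ i) v = rA Q (π₀ i) v' → v = v' := fun v v' e => by
    have := congrArg (rA Q (inv (π₀ i))) e
    rwa [rA_comp, rA_comp, IsIso.inv_hom_id, rA_id, rA_id] at this
  refine hinv _ _ ?_
  rw [rA_comp, rA_comp, map_sub, rA_comp, ← ht i]
  have h1 := congrArg (((gi i).app (op (pw (Xi i) 0))).hom) (show _ = wi from hz)
  rw [map_sub] at h1
  refine Eq.trans ?_ (h1.trans ?_)
  · exact (ConcreteCategory.congr_hom (g.hom.naturality (π₀ i ≫ covMap (Spec.map (qs i) ≫ aO) (A i)).op) z).symm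
  · congr 1
    refine (ConcreteCategory.congr_hom (g.hom.naturality (κ i 0).op) t₁).trans ?_
    refine (congrArg (rA Q (κ i 0)) hs).symm.trans ?_
    rw [rA_comp]
    exact congrArg (fun v => rA Q v s) (cmp_zero _ aO AA (A i) (ψ i) (hψ i))

end Generic

include hE in
/-- Sections over the factors glue up to lifts. -/
theorem exists_glue_sections [Flat G.hom] [Injective I] [∀ i, IsLocalRing (R i)] (N : ℕ)
    (hN : ∀ z, G.hom.finrank z ≤ N) (sf : ∀ i, Q.obj.obj (op (Over.mk (fac R i ≫ a)))) :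
    ∃ s : Q.obj.obj (op (Over.mk a)), ∀ i, ∃ z,
      (g.hom.app (op (Over.mk (fac R i ≫ a)))).hom z = rA Q (facO a i) s - sf i := by
  haveI : IsAffine G.left := isAffine_of_isAffineHom G.hom
  choose A iA iAlg b y hy using fun i =>
    exists_lift_free f g w hE (R := CommRingCat.of (R i)) (fac R i ≫ a) N hN (sf i)
  letI : ∀ i, CommRing (A i) := iA
  letI : ∀ i, Algebra (R i) (A i) := iAlg
  let AA := ∀ i, A i
  letI : Algebra (∀ i, R i) AA := piAlg (R := R) A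
  letI iO : Algebra (CommRingCat.of (∀ i, R i)) AA := piAlg (R := R) A
  letI : Module (CommRingCat.of (∀ i, R i)) AA := Algebra.toModule
  letI : Module (∀ i, R i) AA := (piAlg (R := R) A).toModule
  let D₁ : Comp R AA A := compPi (R := R) A N.factorial b
  let D₂ := D₁.tensor D₁
  let D₃ := D₁.tensor D₂
  haveI : Nonempty (Fin N.factorial) := ⟨⟨0, N.factorial_pos⟩⟩
  haveI hffA : Module.FaithfullyFlat (CommRingCat.of (∀ i, R i)) AA := by
    haveI : Nonempty D₁.κ := ‹Nonempty (Fin N.factorial)›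
    exact Module.FaithfullyFlat.of_linearEquiv _ _ D₁.b.repr
  haveI : Module.Free (∀ i, R i) AA := Module.Free.of_basis D₁.b
  haveI : Module.Finite (∀ i, R i) AA := by
    haveI := D₁.fin
    exact Module.Finite.of_basis D₁.b
  haveI : Module.FinitePresentation (∀ i, R i) AA := Module.finitePresentation_of_projective _ _
  haveI : LocallyOfFinitePresentation
      (Spec.map (CommRingCat.ofHom (algebraMap (CommRingCat.of (∀ i, R i)) AA))) :=
    (HasRingHomProperty.Spec_iff (P := @LocallyOfFinitePresentation)).2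
      (RingHom.finitePresentation_algebraMap.2 (inferInstanceAs (Algebra.FinitePresentation (∀ i, R i) AA)))
  haveI : ∀ i, Module.FaithfullyFlat (R i) (A i) := fun i => Module.FaithfullyFlat.of_linearEquiv _ _ (b i).repr
  haveI : ∀ i, LocallyOfFinitePresentation
      (Spec.map (CommRingCat.ofHom (algebraMap (CommRingCat.of (R i)) (A i)))) := fun i => by
    haveI : Module.Free (R i) (A i) := Module.Free.of_basis (b i)
    haveI : Module.Finite (R i) (A i) := Module.Finite.of_basis (b i)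
    haveI : Module.FinitePresentation (R i) (A i) := Module.finitePresentation_of_projective _ _
    exact (HasRingHomProperty.Spec_iff (P := @LocallyOfFinitePresentation)).2
      (RingHom.finitePresentation_algebraMap.2 (inferInstanceAs (Algebra.FinitePresentation (R i) (A i))))
  exact exists_glue_sections_aux f g w hE
    (fun i => CommRingCat.ofHom (Pi.evalRingHom R i)) a A D₁.ψ (fun i c => D₁.ψ_alg i c) D₂.ψ
    (fun i u v => tensorψ_tmul D₁ D₁ i u v) D₂.bijective D₃.ψ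
    (fun i u v z => (tensorψ_tmul D₁ D₂ i u (v ⊗ₜ z)).trans (congrArg (_ ⊗ₜ ·) (tensorψ_tmul D₁ D₁ i v z)))
    D₃.bijective sf y hy

end Groth.Agent.TorsPi79
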