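import Groth.Agent.TorsPi79.Torsor
import Mathlib.RingTheory.LocalRing.Module
import Mathlib.RingTheory.Spectrum.Prime.FreeLocus

/-!
# Coverings of bounded rank trivializing the torsor of lifts
-/

set_option autoImplicit false

universe u

open CategoryTheory CategoryTheory.Limits Opposite AlgebraicGeometry MonObj CartesianMonoidalCategory
open Groth.Agent.Adeq2Lib

namespace Groth.Agent.TorsPi79

open AffVan CechSingle CechAffine

variable {T : Scheme.{u}} {G : Over T} [GrpObj G] [IsCommMonObj G] [IsFinite G.hom] [Flat G.hom]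
variable {I Q : AbT T} (f : CGrpSh.pts Scheme.fppfPrecoverage G ⟶ I) (g : I ⟶ Q) (w : f ≫ g = 0)
  (hE : (ShortComplex.mk f g w).ShortExact)

include hE in
/-- Over a local ring a section lifts over a free algebra of a rank depending only on a bound of the group. -/
theorem exists_lift_free {R : CommRingCat.{u}} [IsLocalRing R] (a : Spec R ⟶ T) (N : ℕ)
    (hN : ∀ z, G.hom.finrank z ≤ N) (s : Q.obj.obj (op (Over.mk a))) :
    ∃ (A : Type u) (_ : CommRing A) (_ : Algebra R A) (_ : Module.Basis (Fin N.factorial) R A),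
      ∃ y : I.obj.obj (op (cov a A)), (g.hom.app _).hom y = rA Q (covMap a A) s := by
  haveI := hE.epi_g
  obtain ⟨B, _, _, _, hlfp, t, ht⟩ := exists_lift_single a g s
  obtain ⟨P, j, y, hjA, hy, huniv, W, π₁, π₂, m, hsq₁, hsq₂⟩ := exists_torsor f g w hE a s B t ht
  have hfs := (flat_and_surjective_SpecMap_iff (CommRingCat.ofHom (algebraMap R B))).2
    (RingHom.faithfullyFlat_algebraMap_iff.2 inferInstance)
  have he : (covMap a B).left = Spec.map (CommRingCat.ofHom (algebraMap R B)) := sp_hom R _
  haveI : Flat (covMap a B).left := by rw [he]; exact hfs.1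
  haveI : Surjective (covMap a B).left := by rw [he]; exact hfs.2
  haveI : QuasiCompact (covMap a B).left := by
    rw [he]
    exact (inferInstance : QuasiCompact (Spec.map (CommRingCat.ofHom (algebraMap R B))))
  haveI hG₂ : IsFinite π₂ := MorphismProperty.of_isPullback hsq₁ ‹IsFinite G.hom›
  haveI : Flat π₂ := MorphismProperty.of_isPullback hsq₁ ‹Flat G.hom›
  have hGs : Surjective G.hom := ⟨fun x => ⟨((1 : Over.mk (𝟙 T) ⟶ G)).left x, by
    rw [← Scheme.Hom.comp_apply, Over.w]; rfl⟩⟩
  haveI : Surjective π₂ := MorphismProperty.of_isPullback hsq₁ hGs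
  have he' : (@Surjective ⊓ @Flat ⊓ @QuasiCompact : MorphismProperty Scheme.{u}) (covMap a B).left :=
    ⟨⟨‹_›, ‹_›⟩, ‹_›⟩
  haveI hjf : IsFinite j.left :=
    haveI := EtFound.fpqc_isFinite.{u}
    MorphismProperty.of_isPullback_of_descendsAlong (P := @IsFinite) hsq₂.flip he' hG₂
  haveI hjfl : Flat j.left :=
    MorphismProperty.of_isPullback_of_descendsAlong (P := @Flat) hsq₂.flip he' ‹Flat π₂›
  haveI : IsAffine P.left := @isAffine_of_isAffineHom P.left (Spec R) j.left hjA (inferInstance : IsAffine (Spec R))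
  let jR : P.left ⟶ Spec R := j.left
  let A : CommRingCat.{u} := Γ(P.left, ⊤)
  let φ : R ⟶ A := Spec.preimage (P.left.isoSpec.inv ≫ jR)
  have hφ : Spec.map φ = P.left.isoSpec.inv ≫ jR := Spec.map_preimage _
  letI : Algebra R A := φ.hom.toAlgebra
  haveI : IsFinite (Spec.map φ) := by rw [hφ]; infer_instance
  haveI : Flat (Spec.map φ) := by rw [hφ]; infer_instance
  haveI : Module.Finite R A := RingHom.finite_algebraMap.1 ((IsFinite.SpecMap_iff φ).1 inferInstance)
  haveI : Module.Flat R A := RingHom.flat_algebraMap_iff.1 ((HasRingHomProperty.Spec_iff (P := @Flat)).1 ‹Flat (Spec.map φ)›)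
  haveI : Module.Free R A := Module.free_of_flat_of_isLocalRing
  -- a point of the covering over the closed point
  let p : Spec R := IsLocalRing.closedPoint R
  obtain ⟨z, hz⟩ := (covMap a B).left.surjective p
  obtain ⟨w', hw'⟩ := π₂.surjective z
  have hrank : Module.finrank R A = G.hom.finrank ((cov a B).hom z) := by
    have h1 := Scheme.Hom.finrank_of_isPullback _ _ _ _ hsq₁ z
    have h2 := Scheme.Hom.finrank_of_isPullback _ _ _ _ hsq₂ z
    rw [← h1, h2, hz]
    have h3 : jR = P.left.isoSpec.hom ≫ Spec.map φ := by rw [hφ, Iso.hom_inv_id_assoc]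
    show _ = jR.finrank p
    rw [h3, Scheme.Hom.finrank_comp_left_of_isIso]
    exact ((Scheme.Hom.finrank_SpecMap_algebraMap R A p).trans
      (congrFun (Module.rankAtStalk_eq_finrank_of_free (R := R) (M := A)) p)).symm
  haveI : Surjective (Spec.map φ) := ⟨fun x => by
    obtain ⟨z₀, hz₀⟩ := (covMap a B).left.surjective x
    obtain ⟨w₀, hw₀⟩ := π₂.surjective z₀
    refine ⟨P.left.isoSpec.hom (m w₀), ?_⟩
    rw [← Scheme.Hom.comp_apply, hφ, Iso.hom_inv_id_assoc, ← Scheme.Hom.comp_apply]
    exact (congrArg (fun α : W ⟶ Spec R => α w₀) hsq₂.w).trans ((congrArg _ hw₀).trans hz₀)⟩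
  have hpos : 0 < Module.finrank R A := by
    obtain ⟨q, -⟩ := (Spec.map φ).surjective p
    haveI : Nontrivial A := PrimeSpectrum.nontrivial q
    refine Nat.pos_of_ne_zero fun h0 => ?_
    haveI : Subsingleton A := ((Module.finBasis R A).equivFun.toEquiv.trans (Equiv.piCongrLeft (fun _ => R) (finCongr h0))).subsingleton
    exact false_of_nontrivial_of_subsingleton A
  have hle : Module.finrank R A ≤ N := hrank ▸ hN _
  obtain ⟨l, hl⟩ := Nat.dvd_factorial hpos hle
  let A' := Fin l → A
  let b : Module.Basis (Fin N.factorial) R A' :=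
    (Pi.basis fun _ : Fin l => Module.finBasis R A).reindex
      ((Equiv.sigmaEquivProd (Fin l) (Fin (Module.finrank R A))).trans
        (finProdFinEquiv.trans (finCongr (by rw [hl, mul_comm]))))
  let d : A →+* A' := Pi.constRingHom (Fin l) A
  let k₀ : (cov a A').left ⟶ P.left := Spec.map (CommRingCat.ofHom d) ≫ P.left.isoSpec.inv
  have hk₀ : k₀ ≫ j.left = (covMap a A').left := by
    show (Spec.map (CommRingCat.ofHom d) ≫ P.left.isoSpec.inv) ≫ jR = (X₀ (R := R) A').hom
    rw [Category.assoc, ← hφ, sp_hom, ← Spec.map_comp]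
    rfl
  let k : cov a A' ⟶ P := Over.homMk k₀ (by
    rw [← Over.w j, ← Category.assoc, hk₀]
    exact Over.w (covMap a A'))
  have hk : k ≫ j = covMap a A' := Over.OverMorphism.ext hk₀
  refine ⟨A', inferInstance, inferInstance, b, rA I k y, ?_⟩
  rw [show (g.hom.app _).hom (rA I k y) = rA Q k ((g.hom.app _).hom y) from NatTrans.naturality_apply g.hom k.op y,
    hy, rA_comp, hk]

end Groth.Agent.TorsPi79
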