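import Groth.Agent.MdlA1.AffDesc
import Groth.Agent.EtFound.Descent
import Groth.Agent.AlgSpLib.Descends
import Groth.Agent.Adeq2Lib.AffineVanish
import Groth.Prelude.Def_CGrpSh
import Mathlib.AlgebraicGeometry.Morphisms.FlatRank
import Mathlib.CategoryTheory.Limits.Types.Pullbacks

/-!
# The torsor of lifts of a section under an affine group scheme
-/

set_option autoImplicit false
set_option backward.isDefEq.respectTransparency false
set_option backward.isDefEq.respectTransparency.types false

universe u

open CategoryTheory CategoryTheory.Limits Opposite AlgebraicGeometry AlgSp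
open Groth.Agent.Adeq2Lib

namespace Groth.Agent.TorsPi79

open AffVan CechSingle CechAffine

variable {T : Scheme.{u}} {G : Over T} [GrpObj G] [IsCommMonObj G]

/-- The underlying sheaf of sets. -/
noncomputable abbrev setSh (F : AbT T) : Sp T :=
  (sheafCompose (QuotSh.J Scheme.fppfPrecoverage T) (CategoryTheory.forget AddCommGrpCat.{u + 1})).obj F

/-- The underlying map of sheaves of sets. -/
noncomputable abbrev setMap {F F' : AbT T} (φ : F ⟶ F') : setSh F ⟶ setSh F' :=
  (sheafCompose (QuotSh.J Scheme.fppfPrecoverage T) (CategoryTheory.forget AddCommGrpCat.{u + 1})).map φ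

/-- The map from a representable sheaf given by a section. -/
noncomputable def ofSect (F : AbT T) {U : Over T} (x : F.obj.obj (op U)) : (yon T).obj U ⟶ setSh F :=
  ⟨{ app := fun V => ↾fun h => rA F h.down x
     naturality := fun V W k => by
      ext h
      exact (rA_comp F k.unop h.down x).symm }⟩

theorem ofSect_app (F : AbT T) {U V : Over T} (x : F.obj.obj (op U)) (h : V ⟶ U) :
    (ofSect F x).hom.app (op V) (ULift.up h) = rA F h x := rfl

variable {I Q : AbT T} (f : CGrpSh.pts Scheme.fppfPrecoverage G ⟶ I) (g : I ⟶ Q) (w : f ≫ g = 0)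
  (hE : (ShortComplex.mk f g w).ShortExact)

include hE in
/-- The sheaf of lifts of a section is an affine scheme, which becomes the group over a covering. -/
theorem exists_torsor [IsAffineHom G.hom] {R : CommRingCat.{u}} (a : Spec R ⟶ T)
    (s : Q.obj.obj (op (Over.mk a))) (B : Type u) [CommRing B] [Algebra R B] [Module.FaithfullyFlat R B]
    [LocallyOfFinitePresentation (Spec.map (CommRingCat.ofHom (algebraMap R B)))]
    (t : I.obj.obj (op (cov a B))) (ht : (g.hom.app _).hom t = rA Q (covMap a B) s) :
    ∃ (P : Over T) (j : P ⟶ Over.mk a) (y : I.obj.obj (op P)),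
      IsAffineHom j.left ∧ (g.hom.app _).hom y = rA Q j s ∧
      (∀ (V : Over T) (h : V ⟶ Over.mk a) (y' : I.obj.obj (op V)), (g.hom.app _).hom y' = rA Q h s →
        ∃ k : V ⟶ P, k ≫ j = h) ∧
      ∃ (W : Scheme.{u}) (π₁ : W ⟶ G.left) (π₂ : W ⟶ (cov a B).left) (m : W ⟶ P.left),
        IsPullback π₁ π₂ G.hom (cov a B).hom ∧ IsPullback m π₂ j.left (covMap a B).left := by
  let cv := cov a B
  let e : cv ⟶ Over.mk a := covMap a B
  let W₀ := pullback G.hom cv.hom
  let W : Over T := Over.mk (pullback.snd G.hom cv.hom ≫ cv.hom)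
  let p₁ : W ⟶ G := Over.homMk (pullback.fst G.hom cv.hom) pullback.condition
  let p₂ : W ⟶ cv := Over.homMk (pullback.snd G.hom cv.hom) rfl
  let pt : ∀ {V : Over T}, (V ⟶ G) → (CGrpSh.pts Scheme.fppfPrecoverage G).obj.obj (op V) :=
    fun k => ULift.up (Additive.ofMul k)
  have pt_nat : ∀ {V V' : Over T} (k : V' ⟶ V) (l : V ⟶ G),
      rA (CGrpSh.pts Scheme.fppfPrecoverage G) k (pt l) = pt (k ≫ l) := fun k l => rfl
  let φ : I.obj.obj (op W) := rA I p₂ t + (f.hom.app _).hom (pt p₁)
  have hgf : ∀ (V : Over T) z, (g.hom.app (op V)).hom ((f.hom.app (op V)).hom z) = 0 := fun V z =>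
    ConcreteCategory.congr_hom (congrArg (fun α : CGrpSh.pts Scheme.fppfPrecoverage G ⟶ Q => α.hom.app (op V)) w) z
  have hg : ∀ {V : Over T} (h : V ⟶ W), (g.hom.app (op V)).hom (rA I h φ) = rA Q (h ≫ p₂ ≫ e) s := by
    intro V h
    rw [show (g.hom.app (op V)).hom (rA I h φ) = rA Q h ((g.hom.app (op W)).hom φ) from
      NatTrans.naturality_apply g.hom h.op φ]
    rw [map_add, hgf, add_zero, show (g.hom.app (op W)).hom (rA I p₂ t) = rA Q p₂ ((g.hom.app _).hom t) from
      NatTrans.naturality_apply g.hom p₂.op t, ht, rA_comp, rA_comp, Category.assoc]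
  let qs : (yon T).obj (Over.mk a) ⟶ setSh Q := ofSect Q s
  let top : (yon T).obj W ⟶ setSh I := ofSect I φ
  -- the outer square
  have houter : IsPullback top ((yon T).map p₂) (setMap g) ((yon T).map e ≫ qs) := by
    refine IsPullback.of_map (sheafToPresheaf _ _) ?_ (IsPullback.of_forall_isPullback_app fun V => ?_)
    · refine Sheaf.hom_ext (NatTrans.ext (funext fun V => ?_))
      ext h
      exact hg h.down
    · obtain ⟨V⟩ := V
      rw [CategoryTheory.Limits.Types.isPullback_iff]
      refine ⟨?_, ?_, ?_⟩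
      · ext h
        exact hg h.down
      · rintro ⟨h⟩ ⟨h'⟩ ⟨h1, h2⟩
        have e2 : h ≫ p₂ = h' ≫ p₂ := congrArg ULift.down h2
        have e1 : rA I h φ = rA I h' φ := h1
        simp only [φ, map_add, rA_comp, e2] at e1
        have e3 : (f.hom.app (op V)).hom (pt (h ≫ p₁)) = (f.hom.app (op V)).hom (pt (h' ≫ p₁)) := by
          rw [← pt_nat, ← pt_nat]
          exact ((NatTrans.naturality_apply f.hom h.op _).trans (add_left_cancel e1)).trans
            (NatTrans.naturality_apply f.hom h'.op _).symm
        have e4 : h ≫ p₁ = h' ≫ p₁ := congrArg (fun z => Additive.toMul z.down) ((secA_exact _ hE V).1 e3)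
        refine congrArg ULift.up (Over.OverMorphism.ext (pullback.hom_ext ?_ ?_))
        · exact congrArg CommaMorphism.left e4
        · exact congrArg CommaMorphism.left e2
      · intro y₀ ⟨h⟩ hy
        let y : I.obj.obj (op V) := y₀
        have hy' : (g.hom.app (op V)).hom y = rA Q (h ≫ e) s := hy
        obtain ⟨z, hz⟩ := ((secA_exact _ hE V).2 (y - rA I h t)).1 (by
          show (g.hom.app (op V)).hom (y - rA I h t) = 0
          rw [map_sub, hy', show (g.hom.app (op V)).hom (rA I h t) = rA Q h ((g.hom.app _).hom t) from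
            NatTrans.naturality_apply g.hom h.op t, ht, rA_comp, sub_self])
        let k : V ⟶ G := Additive.toMul z.down
        let m : V ⟶ W := Over.homMk (pullback.lift k.left h.left ((Over.w k).trans (Over.w h).symm)) (by
          show pullback.lift _ _ _ ≫ pullback.snd _ _ ≫ cv.hom = V.hom
          rw [pullback.lift_snd_assoc, Over.w h])
        have hm₂ : m ≫ p₂ = h := Over.OverMorphism.ext (pullback.lift_snd _ _ _)
        have hm₁ : m ≫ p₁ = k := Over.OverMorphism.ext (pullback.lift_fst _ _ _)
        refine ⟨ULift.up m, ?_, congrArg ULift.up hm₂⟩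
        show rA I m φ = y
        simp only [φ, map_add, rA_comp, hm₂]
        rw [show rA I m ((f.hom.app (op W)).hom (pt p₁)) = (f.hom.app (op V)).hom (pt (m ≫ p₁)) from
          (NatTrans.naturality_apply f.hom m.op _).symm, hm₁]
        exact (congrArg (rA I h t + ·) hz).trans (add_sub_cancel _ _)
  let Pl := pullback (setMap g) qs
  have hw : top ≫ setMap g = ((yon T).map p₂ ≫ (yon T).map e) ≫ qs := by rw [houter.w, Category.assoc]
  let wm : (yon T).obj W ⟶ Pl := pullback.lift top ((yon T).map p₂ ≫ (yon T).map e) hw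
  have sq : IsPullback wm ((yon T).map p₂) (pullback.snd (setMap g) qs) ((yon T).map e) := by
    refine IsPullback.of_right ?_ (pullback.lift_snd _ _ _) (IsPullback.of_hasPullback (setMap g) qs)
    rw [pullback.lift_fst]
    exact houter
  have hfs := (flat_and_surjective_SpecMap_iff (CommRingCat.ofHom (algebraMap R B))).2
    (RingHom.faithfullyFlat_algebraMap_iff.2 inferInstance)
  have he : e.left = Spec.map (CommRingCat.ofHom (algebraMap R B)) := sp_hom R _
  haveI : Flat e.left := by rw [he]; exact hfs.1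
  haveI : Surjective e.left := by rw [he]; exact hfs.2
  haveI : LocallyOfFinitePresentation e.left := by rw [he]; exact ‹LocallyOfFinitePresentation _›
  haveI : IsAffineHom p₂.left := MorphismProperty.pullback_snd _ _ ‹IsAffineHom G.hom›
  obtain ⟨P, Φ, j, hj, hjA⟩ := MdlA1.AffDesc.exists_rep e sq
  let y : I.obj.obj (op P) := (Φ.hom ≫ pullback.fst (setMap g) qs).hom.app (op P) (ULift.up (𝟙 P))
  have hy : (g.hom.app (op P)).hom y = rA Q j s := by
    have h1 := congrArg (fun α : (yon T).obj P ⟶ setSh Q => α.hom.app (op P) (ULift.up (𝟙 P)))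
      ((Category.assoc Φ.hom _ _).trans (congrArg (Φ.hom ≫ ·) (pullback.condition (f := setMap g) (g := qs))))
    refine Eq.trans ?_ (h1.trans ?_)
    · rfl
    · show qs.hom.app (op P) ((Φ.hom ≫ pullback.snd (setMap g) qs).hom.app (op P) (ULift.up (𝟙 P))) = _
      rw [hj]
      show rA Q (𝟙 P ≫ j) s = _
      rw [Category.id_comp]
  refine ⟨P, j, y, hjA, hy, fun V h y' hy' => ?_, W.left, pullback.fst _ _, pullback.snd _ _, ?_⟩
  · have hc : ofSect I y' ≫ setMap g = (yon T).map h ≫ qs := by
      refine Sheaf.hom_ext (NatTrans.ext (funext fun U => ?_))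
      ext k
      show (g.hom.app U).hom (rA I k.down y') = rA Q (k.down ≫ h) s
      rw [show (g.hom.app U).hom (rA I k.down y') = rA Q k.down ((g.hom.app _).hom y') from
        NatTrans.naturality_apply g.hom k.down.op y', hy', rA_comp]
    refine ⟨(yon T).preimage (pullback.lift _ _ hc ≫ Φ.inv), (yon T).map_injective ?_⟩
    rw [Functor.map_comp, Functor.map_preimage, ← hj, Category.assoc, Iso.inv_hom_id_assoc, pullback.lift_snd]
  · have sq' : IsPullback (wm ≫ Φ.inv) ((yon T).map p₂) ((yon T).map j) ((yon T).map e) := by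
      refine sq.of_iso (Iso.refl _) Φ.symm (Iso.refl _) (Iso.refl _) (by simp) (by simp) ?_ (by simp)
      rw [Iso.refl_hom, Category.comp_id, Iso.symm_hom, ← hj, Iso.inv_hom_id_assoc]
    rw [← (yon T).map_preimage (wm ≫ Φ.inv)] at sq'
    exact ⟨((yon T).preimage (wm ≫ Φ.inv)).left, IsPullback.of_hasPullback _ _,
      (IsPullback.of_map (yon T) ((yon T).map_injective (by simpa using sq'.w)) sq').map (Over.forget T)⟩

end Groth.Agent.TorsPi79
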